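import Mathlib.LinearAlgebra.Matrix.ToLin
import Mathlib.Algebra.Polynomial.Module.FiniteDimensional
import Mathlib.Algebra.Module.PID
import Mathlib.RingTheory.Ideal.Quotient.Operations
import Mathlib.RingTheory.LocalRing.ResidueField.Basic
import Mathlib.RingTheory.Nakayama
import Mathlib.LinearAlgebra.FiniteDimensional.Basic
import Mathlib.Algebra.Algebra.Subalgebra.Basic

/-! # Regular matrices have cyclic vectors -/

set_option autoImplicit false
set_option linter.style.haveILetI false

universe u

open Polynomial Module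

namespace RegMatLib

variable {K : Type u} [Field K] {n : ℕ}

/-- A matrix whose centralizer has dimension equal to its size has a cyclic vector. -/
theorem exists_cyclic (g : Matrix (Fin n) (Fin n) K)
    (h : Module.finrank K (Subalgebra.centralizer K ({g} : Set (Matrix (Fin n) (Fin n) K))) ≤ n) :
    ∃ v : Fin n → K, ∀ w : Fin n → K, ∃ p : K[X], aeval (Matrix.toLinAlgEquiv' g) p v = w := by
  classical
  let φ : Module.End K (Fin n → K) := Matrix.toLinAlgEquiv' g
  let W := Module.AEval' φ
  let o : (Fin n → K) ≃ₗ[K] W := Module.AEval'.of φ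
  obtain ⟨ι, hι, p, hp, e, ⟨E⟩⟩ := Module.equiv_directSum_of_isTorsion
    (Module.AEval.isTorsion_of_finiteDimensional K (Fin n → K) φ)
  let Q : ι → Type u := fun i => K[X] ⧸ Submodule.span K[X] ({p i ^ e i} : Set K[X])
  let P := (i : ι) → Q i
  let E' : W ≃ₗ[K[X]] P := E.trans (DirectSum.linearEquivFunOnFintype K[X] ι Q)
  haveI : FiniteDimensional K W := Module.Finite.equiv o
  haveI : FiniteDimensional K P := Module.Finite.equiv (E'.restrictScalars K)
  have hP : Module.finrank K P = n := by
    rw [← LinearEquiv.finrank_eq (o.trans (E'.restrictScalars K)), Module.finrank_fin_fun]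
  -- commuting endomorphisms from module endomorphisms
  let toEnd : (P →ₗ[K[X]] P) → Module.End K (Fin n → K) := fun T =>
    (o.trans (E'.restrictScalars K)).symm.toLinearMap ∘ₗ (T.restrictScalars K) ∘ₗ (o.trans (E'.restrictScalars K)).toLinearMap
  have htoEnd : ∀ T, toEnd T * φ = φ * toEnd T := fun T => by
    refine LinearMap.ext fun v => ?_
    show o.symm (E'.symm (T (E' (o (φ v))))) = φ (o.symm (E'.symm (T (E' (o v)))))
    rw [show o (φ v) = (X : K[X]) • o v from (Module.AEval.X_smul_of φ v).symm, map_smul, map_smul, map_smul]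
    exact Module.AEval.of_symm_X_smul φ _
  let Ψ : (P →ₗ[K[X]] P) →ₗ[K] Subalgebra.centralizer K ({g} : Set (Matrix (Fin n) (Fin n) K)) :=
    { toFun := fun T => ⟨Matrix.toLinAlgEquiv'.symm (toEnd T), fun z hz => by
        rw [Set.mem_singleton_iff.1 hz]
        apply Matrix.toLinAlgEquiv'.injective
        rw [map_mul, map_mul, AlgEquiv.apply_symm_apply]
        exact (htoEnd T).symm⟩
      map_add' := fun S T => Subtype.ext (by
        show Matrix.toLinAlgEquiv'.symm (toEnd (S + T)) = Matrix.toLinAlgEquiv'.symm (toEnd S) + Matrix.toLinAlgEquiv'.symm (toEnd T)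
        rw [← map_add]
        exact congrArg _ (LinearMap.ext fun v => by simp [toEnd]))
      map_smul' := fun c T => Subtype.ext (by
        show Matrix.toLinAlgEquiv'.symm (toEnd (c • T)) = c • Matrix.toLinAlgEquiv'.symm (toEnd T)
        rw [← map_smul]
        exact congrArg _ (LinearMap.ext fun v => by simp [toEnd])) }
  have hΨ : Function.Injective Ψ := fun S T hST => by
    have h1 : toEnd S = toEnd T := Matrix.toLinAlgEquiv'.symm.injective (congrArg Subtype.val hST)
    refine LinearMap.ext fun y => ?_
    have := LinearMap.congr_fun h1 ((o.trans (E'.restrictScalars K)).symm y)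
    simp only [toEnd, LinearMap.comp_apply, LinearEquiv.coe_toLinearMap, LinearEquiv.apply_symm_apply] at this
    exact (o.trans (E'.restrictScalars K)).symm.injective this
  haveI : FiniteDimensional K (P →ₗ[K[X]] P) := FiniteDimensional.of_injective Ψ hΨ
  -- the prime powers are pairwise coprime
  have hcop : Pairwise fun i j => IsCoprime (Ideal.span ({p i ^ e i} : Set K[X])) (Ideal.span ({p j ^ e j} : Set K[X])) := by
    intro i j hij
    rw [Ideal.isCoprime_span_singleton_iff]
    by_contra hnc
    have hei : e i ≠ 0 := fun he => hnc (by rw [he, pow_zero]; exact isCoprime_one_left)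
    have hej : e j ≠ 0 := fun he => hnc (by rw [he, pow_zero]; exact isCoprime_one_right)
    have hdvd : p i ∣ p j := by
      rcases (hp i).coprime_iff_not_dvd.not_left.1 (fun hco => hnc (hco.pow (m := e i) (n := e j))) with hd
      exact hd
    have hassoc : Associated (p i) (p j) := (hp i).associated_of_dvd (hp j) hdvd
    obtain ⟨k, hk⟩ := Nat.exists_eq_add_one_of_ne_zero hej
    let h0 : Q i →ₗ[K[X]] Q j := Submodule.liftQ _ ((Submodule.mkQ _).comp (LinearMap.mulLeft K[X] (p j ^ k))) (by
      rw [Submodule.span_singleton_le_iff_mem, LinearMap.mem_ker, LinearMap.comp_apply, Submodule.mkQ_apply,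
        Submodule.Quotient.mk_eq_zero]
      refine Ideal.mem_span_singleton.2 ?_
      show p j ^ e j ∣ p j ^ k * p i ^ e i
      rw [hk, pow_succ]
      exact mul_dvd_mul_left _ (dvd_pow hassoc.dvd' hei))
    have h0ne : h0 (Submodule.Quotient.mk 1) ≠ 0 := fun h1 => by
      change Submodule.Quotient.mk (p j ^ k * 1) = (0 : Q j) at h1
      rw [mul_one, Submodule.Quotient.mk_eq_zero] at h1
      have h2 : p j ^ e j ∣ p j ^ k := Ideal.mem_span_singleton.1 h1
      rw [pow_dvd_pow_iff (hp j).ne_zero (hp j).not_isUnit] at h2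
      omega
    let θ : P →ₗ[K[X]] P := (LinearMap.single K[X] Q j).comp (h0.comp (LinearMap.proj i))
    let mulL : P →ₗ[K] (P →ₗ[K[X]] P) :=
      { toFun := fun a => LinearMap.pi fun l =>
          ({ toFun := fun y => a l * y
             map_add' := fun y z => mul_add _ _ _
             map_smul' := fun r y => mul_smul_comm r _ _ } : Q l →ₗ[K[X]] Q l).comp (LinearMap.proj l)
        map_add' := fun a b => LinearMap.ext fun y => funext fun l => add_mul _ _ _
        map_smul' := fun c a => LinearMap.ext fun y => funext fun l => smul_mul_assoc c (a l) (y l) }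
    let big : (P × K) →ₗ[K] (P →ₗ[K[X]] P) := mulL.coprod (LinearMap.toSpanSingleton K _ θ)
    have hbig : Function.Injective big := by
      rw [injective_iff_map_eq_zero]
      rintro ⟨a, c⟩ hac
      have happ : ∀ y l, a l * y l + (c • θ y) l = 0 := fun y l => congrFun (LinearMap.congr_fun hac y) l
      have hc : c = 0 := by
        by_contra hc
        have h1 := happ (Pi.single i (Submodule.Quotient.mk 1)) j
        rw [Pi.single_eq_of_ne hij.symm, mul_zero, zero_add, Pi.smul_apply] at h1
        simp only [θ, LinearMap.comp_apply, LinearMap.proj_apply, Pi.single_eq_same] at h1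
        rw [LinearMap.single_apply, Pi.single_eq_same] at h1
        exact h0ne ((congrArg h0 (Pi.single_eq_same (M := Q) i (Submodule.Quotient.mk 1))).symm.trans ((smul_eq_zero.1 h1).resolve_left hc))
      refine Prod.ext (funext fun l => ?_) hc
      have h2 := happ (fun l => (Ideal.Quotient.mk _ 1 : Q l)) l
      have e0 : (c • θ (fun l => (Ideal.Quotient.mk _ 1 : Q l))) l = 0 := by rw [hc]; exact zero_smul K _
      rw [e0, add_zero] at h2
      exact (mul_one (a l)).symm.trans h2
    have h3 := LinearMap.finrank_le_finrank_of_injective (f := Ψ.comp big) (hΨ.comp hbig)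
    rw [Module.finrank_prod, hP, Module.finrank_self] at h3
    omega
  -- so the sum is cyclic
  refine ⟨o.symm (E'.symm fun i => Submodule.Quotient.mk 1), fun w => ?_⟩
  obtain ⟨q, hq⟩ := Ideal.exists_forall_sub_mem_ideal hcop fun i => Function.surjInv Ideal.Quotient.mk_surjective ((E' (o w)) i)
  refine ⟨q, o.injective (E'.injective ?_)⟩
  rw [show o (aeval φ q (o.symm (E'.symm fun i => Submodule.Quotient.mk 1))) =
      q • o (o.symm (E'.symm fun i => Submodule.Quotient.mk 1)) from Module.AEval.of_aeval_smul φ q _,
    LinearEquiv.apply_symm_apply, map_smul, LinearEquiv.apply_symm_apply]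
  funext i
  rw [Pi.smul_apply, ← Submodule.Quotient.mk_smul, smul_eq_mul, mul_one,
    ← Function.surjInv_eq (f := Ideal.Quotient.mk (Ideal.span ({p i ^ e i} : Set K[X]))) Ideal.Quotient.mk_surjective ((E' (o w)) i)]
  exact Ideal.Quotient.eq.2 (hq i)

/-- Commuting with a fibrewise cyclic matrix over a local ring forces commuting. -/
theorem comm_of_cyclic {R : Type u} [CommRing R] [IsLocalRing R] (g x y : Matrix (Fin n) (Fin n) R)
    (v : Fin n → IsLocalRing.ResidueField R)
    (hv : ∀ w, ∃ p : (IsLocalRing.ResidueField R)[X], aeval (Matrix.toLinAlgEquiv' (g.map (IsLocalRing.residue R))) p v = w)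
    (hx : Commute x g) (hy : Commute y g) : x * y = y * x := by
  let π := IsLocalRing.residue R
  obtain ⟨v, rfl⟩ : ∃ u : Fin n → R, (fun i => π (u i)) = v :=
    ⟨fun i => Function.surjInv IsLocalRing.residue_surjective (v i),
      funext fun i => Function.surjInv_eq IsLocalRing.residue_surjective (v i)⟩
  let L : R[X] →ₗ[R] (Fin n → R) :=
    { toFun := fun p => (aeval g p).mulVec v
      map_add' := fun p q => by rw [map_add, Matrix.add_mulVec]
      map_smul' := fun c p => by rw [map_smul, Matrix.smul_mulVec]; rfl }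
  have hL : ∀ w, ∃ p : R[X], (aeval g p).mulVec v = w := by
    intro w
    have htop : (⊤ : Submodule R (Fin n → R)) ≤ LinearMap.range L := by
      refine Submodule.le_of_le_smul_of_le_jacobson_bot Module.Finite.fg_top
        (IsLocalRing.maximalIdeal_le_jacobson ⊥) fun w _ => ?_
      obtain ⟨p, hp⟩ := hv fun i => π (w i)
      obtain ⟨p, rfl⟩ := Polynomial.map_surjective π IsLocalRing.residue_surjective p
      have key : ∀ i, π ((aeval g p).mulVec v i) = π (w i) := fun i => by
        rw [← congrFun hp i, show aeval (Matrix.toLinAlgEquiv' (g.map π)) (p.map π) = Matrix.toLinAlgEquiv' (aeval (g.map π) (p.map π)) from Polynomial.aeval_algHom_apply (Matrix.toLinAlgEquiv' (R := IsLocalRing.ResidueField R) (n := Fin n)).toAlgHom (g.map π) (p.map π), RingHom.map_mulVec]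
        rw [Matrix.toLinAlgEquiv'_apply]
        refine congrFun (congrArg (fun M => Matrix.mulVec M _) ?_) i
        rw [aeval_def, aeval_def, Polynomial.eval₂_map]
        refine (Polynomial.hom_eval₂ p _ (RingHom.mapMatrix π) g).trans ?_
        exact congrArg₂ (fun f z => Polynomial.eval₂ f z p) (RingHom.ext fun r => by
          show (algebraMap R (Matrix (Fin n) (Fin n) R) r).map π = algebraMap _ _ (π r)
          rw [Matrix.algebraMap_eq_diagonal, Matrix.algebraMap_eq_diagonal, Matrix.diagonal_map (map_zero π)]
          rfl) rfl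
      rw [← add_sub_cancel (L p) w]
      refine Submodule.add_mem_sup ⟨p, rfl⟩ ?_
      rw [pi_eq_sum_univ (w - L p)]
      refine sum_mem fun i _ => Submodule.smul_mem_smul ?_ trivial
      rw [← IsLocalRing.residue_eq_zero_iff, Pi.sub_apply, map_sub, sub_eq_zero]
      exact (key i).symm
    exact htop (show w ∈ (⊤ : Submodule R (Fin n → R)) from trivial)
  have hcomm : ∀ {z : Matrix (Fin n) (Fin n) R}, Commute z g → ∀ q : R[X], z * aeval g q = aeval g q * z := fun {z} hz q =>
    q.induction_on' (fun p q hp hq => by rw [map_add, mul_add, add_mul, hp, hq])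
      (fun k c => by rw [aeval_monomial]; exact ((Algebra.commute_algebraMap_right c z).mul_right (hz.pow_right k)).eq)
  obtain ⟨a, ha⟩ := hL (x.mulVec v)
  obtain ⟨b, hb⟩ := hL (y.mulVec v)
  have hxy : (x * y).mulVec v = (y * x).mulVec v := by
    rw [← Matrix.mulVec_mulVec, ← hb, Matrix.mulVec_mulVec, hcomm hx b, ← Matrix.mulVec_mulVec, ← ha,
      Matrix.mulVec_mulVec, ← map_mul, mul_comm b a, map_mul, ← Matrix.mulVec_mulVec, hb, Matrix.mulVec_mulVec,
      ← hcomm hy a, ← Matrix.mulVec_mulVec, ha, Matrix.mulVec_mulVec]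
  refine Matrix.toLin'.injective (LinearMap.ext fun w => ?_)
  obtain ⟨q, rfl⟩ := hL w
  simp only [Matrix.toLin'_apply, Matrix.mulVec_mulVec]
  rw [hcomm (hx.mul_left hy) q, hcomm (hy.mul_left hx) q, ← Matrix.mulVec_mulVec, hxy, Matrix.mulVec_mulVec]

end RegMatLib
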