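import Groth.Agent.RegMatLib.Cyclic
import Mathlib.LinearAlgebra.Matrix.NonsingularInverse
import Mathlib.Data.Matrix.ColumnRowPartitioned
import Mathlib.LinearAlgebra.Basis.VectorSpace
import Mathlib.LinearAlgebra.Matrix.Charpoly.Coeff
import Mathlib.RingTheory.Flat.Stability
import Mathlib.RingTheory.Flat.Localization
import Mathlib.RingTheory.Localization.AtPrime.Basic
import Mathlib.RingTheory.MvPolynomial.Basic

/-! # The centralizer scheme of a regular matrix is flat -/

set_option autoImplicit false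
set_option linter.style.haveILetI false

universe u

open Polynomial Matrix

namespace RegMatLib

variable {n : ℕ}

/-- The matrix of `z ↦ z g - g z`. -/
def commMat {R : Type*} [CommRing R] (g : Matrix (Fin n) (Fin n) R) : Matrix (Fin n × Fin n) (Fin n × Fin n) R :=
  Matrix.of fun ij kl => (if ij.1 = kl.1 then g kl.2 ij.2 else 0) - (if kl.2 = ij.2 then g ij.1 kl.1 else 0)

theorem commMat_mulVec {R : Type*} [CommRing R] (g : Matrix (Fin n) (Fin n) R) (z : Fin n × Fin n → R) (i j : Fin n) :
    (commMat g).mulVec z (i, j) = (Matrix.of (fun a b => z (a, b)) * g - g * Matrix.of fun a b => z (a, b)) i j := by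
  simp only [commMat, Matrix.mulVec, dotProduct, Matrix.of_apply, Matrix.sub_apply, Matrix.mul_apply,
    Fintype.sum_prod_type, sub_mul, Finset.sum_sub_distrib, ite_mul, zero_mul]
  congr 1
  · rw [Finset.sum_eq_single i (fun a _ ha => by simp [ha.symm]) (by simp)]
    simp [mul_comm]
  · refine Finset.sum_congr rfl fun a _ => ?_
    rw [Finset.sum_eq_single j (fun b _ hb => by simp [hb]) (by simp), if_pos rfl]

theorem commMat_map {R S : Type*} [CommRing R] [CommRing S] (f : R →+* S) (g : Matrix (Fin n) (Fin n) R) :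
    commMat (g.map f) = (commMat g).map f := by
  ext ij kl
  simp [commMat, apply_ite f, map_zero]

/-- Over a local ring, `z ↦ z g - g z` has a generalized inverse when `g` is cyclic on the residue field. -/
theorem exists_genInv_local {R : Type u} [CommRing R] [IsLocalRing R] (g : Matrix (Fin n) (Fin n) R)
    (v : Fin n → IsLocalRing.ResidueField R)
    (hv : ∀ w, ∃ p : (IsLocalRing.ResidueField R)[X],
      aeval (Matrix.toLinAlgEquiv' (g.map (IsLocalRing.residue R))) p v = w) :
    ∃ U, commMat g * U * commMat g = commMat g := by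
  classical
  let k := IsLocalRing.ResidueField R
  let π : R →+* k := IsLocalRing.residue R
  obtain ⟨v, rfl⟩ : ∃ u : Fin n → R, (fun i => π (u i)) = v :=
    ⟨fun i => Function.surjInv IsLocalRing.residue_surjective (v i),
      funext fun i => Function.surjInv_eq IsLocalRing.residue_surjective (v i)⟩
  have hπ : ∀ {ι : Type} [Fintype ι] [DecidableEq ι] (M : Matrix ι ι R), IsUnit (π.mapMatrix M).det → IsUnit M.det := by
    intro ι _ _ M h
    rw [← RingHom.map_det] at h
    exact isUnit_of_map_unit π _ h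
  let C : Matrix (Fin n) (Fin n) R := Matrix.of fun a k => (g ^ (k : ℕ)).mulVec v a
  let gb := π.mapMatrix g
  let vb : Fin n → k := fun i => π (v i)
  have hC' : ∀ a l, π.mapMatrix C a l = (gb ^ (l : ℕ)).mulVec vb a := fun a l => by
    show π ((g ^ (l : ℕ)).mulVec v a) = _
    rw [RingHom.map_mulVec, ← map_pow]; rfl
  have hspan : ∀ w, ∃ c : Fin n → k, ∑ l : Fin n, c l • (gb ^ (l : ℕ)).mulVec vb = w := by
    intro w
    obtain ⟨p, hp⟩ := hv w
    refine ⟨fun l => (p %ₘ gb.charpoly).coeff l, ?_⟩
    have h1 : aeval gb (p %ₘ gb.charpoly) = aeval gb p :=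
      Polynomial.aeval_modByMonic_eq_self_of_root (Matrix.aeval_self_charpoly gb)
    rw [← hp, show aeval (Matrix.toLinAlgEquiv' (g.map π)) p = Matrix.toLinAlgEquiv' (aeval gb p) from
      Polynomial.aeval_algHom_apply (Matrix.toLinAlgEquiv' (R := k) (n := Fin n)).toAlgHom gb p,
      Matrix.toLinAlgEquiv'_apply, ← h1]
    by_cases hn : n = 0
    · subst hn; exact funext fun i => i.elim0
    · have hd : (p %ₘ gb.charpoly).natDegree < n := by
        refine lt_of_lt_of_le (Polynomial.natDegree_modByMonic_lt p (Matrix.charpoly_monic gb) ?_) ?_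
        · intro h
          have := Matrix.charpoly_natDegree_eq_dim gb
          rw [h, Polynomial.natDegree_one, Fintype.card_fin] at this
          exact hn this.symm
        · rw [Matrix.charpoly_natDegree_eq_dim, Fintype.card_fin]
      rw [Polynomial.aeval_eq_sum_range' hd, Matrix.sum_mulVec, ← Fin.sum_univ_eq_sum_range (fun l => ((p %ₘ gb.charpoly).coeff l • gb ^ l).mulVec vb)]
      exact Finset.sum_congr rfl fun l _ => (Matrix.smul_mulVec _ _ _).symm
  have hCu : IsUnit C.det := by
    refine hπ C ((Matrix.isUnit_iff_isUnit_det _).1 (Matrix.mulVec_surjective_iff_isUnit.1 fun w => ?_))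
    obtain ⟨c, hc⟩ := hspan w
    refine ⟨c, ?_⟩
    rw [← hc]
    funext a
    simp only [Matrix.mulVec, dotProduct, Finset.sum_apply, Pi.smul_apply, smul_eq_mul]
    refine Finset.sum_congr rfl fun l _ => ?_
    rw [hC', mul_comm]
    rfl
  let L := commMat g
  let T : Matrix (Fin n) (Fin n × Fin n) R := Matrix.of fun l ab => C⁻¹ l ab.1 * v ab.2
  let S : Matrix (Fin n × Fin n) (Fin n) R := Matrix.of fun ij l => (g ^ (l : ℕ)) ij.1 ij.2
  have hTz : ∀ (z : Fin n × Fin n → R), T.mulVec z = C⁻¹.mulVec ((Matrix.of fun a b => z (a, b)).mulVec v) := fun z => by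
    funext l
    simp only [T, Matrix.mulVec, dotProduct, Matrix.of_apply, Fintype.sum_prod_type, Finset.mul_sum]
    exact Finset.sum_congr rfl fun a _ => Finset.sum_congr rfl fun b _ => by ring
  have hS : ∀ l, S.col l = fun ij => (g ^ (l : ℕ)) ij.1 ij.2 := fun l => rfl
  have hLS : L * S = 0 := by
    refine Matrix.ext fun ij l => ?_
    have := commMat_mulVec g (S.col l) ij.1 ij.2
    rw [show Matrix.of (fun a b => S.col l (a, b)) = g ^ (l : ℕ) from rfl,
      ← pow_succ, ← pow_succ', sub_self] at this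
    exact this
  have hTS : T * S = 1 := by
    refine Matrix.ext fun l l' => ?_
    have h1 := congrFun (hTz (S.col l')) l
    rw [show Matrix.of (fun a b => S.col l' (a, b)) = g ^ (l' : ℕ) from rfl] at h1
    rw [← Matrix.nonsing_inv_mul C hCu, Matrix.mul_apply, Matrix.mul_apply]
    exact h1
  let F := Matrix.fromRows L T
  have hFinj : LinearMap.ker (Matrix.toLin' (F.map π)) = ⊥ := by
    rw [LinearMap.ker_eq_bot']
    intro z hz
    rw [Matrix.toLin'_apply] at hz
    obtain ⟨zb, rfl⟩ : ∃ u : Fin n × Fin n → R, (fun ij => π (u ij)) = z :=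
      ⟨fun ij => Function.surjInv IsLocalRing.residue_surjective (z ij),
        funext fun ij => Function.surjInv_eq IsLocalRing.residue_surjective (z ij)⟩
    have hz' : ∀ r, π (F.mulVec zb r) = 0 := fun r => by rw [RingHom.map_mulVec]; exact congrFun hz r
    let Z := π.mapMatrix (Matrix.of fun a b => zb (a, b))
    have hZg : Commute Z gb := by
      refine Matrix.ext fun i j => ?_
      have h1 : π (L.mulVec zb (i, j)) = 0 := hz' (Sum.inl (i, j))
      rw [commMat_mulVec] at h1
      have h2 : (Z * gb - gb * Z) i j = 0 := by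
        simp only [Z, gb, ← map_mul, ← map_sub]
        exact h1
      exact sub_eq_zero.1 h2
    have hZv : Z.mulVec vb = 0 := by
      funext a
      have h1 : ∀ l, π (C⁻¹.mulVec ((Matrix.of fun a b => zb (a, b)).mulVec v) l) = 0 := fun l => by
        rw [← hTz]; exact hz' (Sum.inr l)
      have h2 : π ((C * C⁻¹).mulVec ((Matrix.of fun a b => zb (a, b)).mulVec v) a) = 0 := by
        rw [← Matrix.mulVec_mulVec]
        show π (∑ l, C a l * _) = 0
        rw [map_sum]
        exact Finset.sum_eq_zero fun l _ => by rw [map_mul, h1, mul_zero]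
      rw [Matrix.mul_nonsing_inv C hCu, Matrix.one_mulVec, RingHom.map_mulVec] at h2
      exact h2
    have hZ : Z = 0 := by
      refine Matrix.toLin'.injective (LinearMap.ext fun w => ?_)
      obtain ⟨c, rfl⟩ := hspan w
      rw [map_zero, LinearMap.zero_apply, map_sum]
      refine Finset.sum_eq_zero fun l _ => ?_
      rw [map_smul, Matrix.toLin'_apply, Matrix.mulVec_mulVec, (hZg.pow_right l).eq, ← Matrix.mulVec_mulVec, hZv,
        Matrix.mulVec_zero, smul_zero]
    funext ij
    exact congrFun (congrFun hZ ij.1) ij.2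
  obtain ⟨G0, hG0⟩ := LinearMap.exists_leftInverse_of_injective _ hFinj
  let G : Matrix (Fin n × Fin n) ((Fin n × Fin n) ⊕ Fin n) R :=
    Matrix.of fun a b => Function.surjInv IsLocalRing.residue_surjective (LinearMap.toMatrix' G0 a b)
  have hG : G.map π = LinearMap.toMatrix' G0 :=
    Matrix.ext fun a b => Function.surjInv_eq IsLocalRing.residue_surjective _
  have hGFu : IsUnit (G * F).det := hπ _ (by
    rw [RingHom.mapMatrix_apply, Matrix.map_mul, hG, ← LinearMap.toMatrix'_toLin' (F.map π), ← LinearMap.toMatrix'_comp,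
      hG0, LinearMap.toMatrix'_id, Matrix.det_one]
    exact isUnit_one)
  let W := (G * F)⁻¹ * G
  have hW : W.toCols₁ * L + W.toCols₂ * T = 1 := by
    rw [← Matrix.fromCols_mul_fromRows, Matrix.fromCols_toCols]
    show (G * F)⁻¹ * G * F = 1
    rw [Matrix.mul_assoc, Matrix.nonsing_inv_mul _ hGFu]
  refine ⟨W.toCols₁, ?_⟩
  have h1 : W.toCols₁ * L = 1 - S * T := by
    have h2 := congrArg (· * (1 - S * T)) hW
    simp only [add_mul, Matrix.mul_sub, Matrix.mul_one, one_mul, Matrix.mul_assoc, ← Matrix.mul_assoc L S, hLS,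
      ← Matrix.mul_assoc T S, hTS, Matrix.one_mul, Matrix.zero_mul, Matrix.mul_zero, sub_self, sub_zero, add_zero] at h2
    exact h2
  rw [Matrix.mul_assoc, h1, Matrix.mul_sub, Matrix.mul_one, ← Matrix.mul_assoc, hLS, Matrix.zero_mul, sub_zero]

/-- Generalized inverses patch. -/
theorem exists_genInv {A : Type u} [CommRing A] (g : Matrix (Fin n) (Fin n) A)
    (hreg : ∀ (K : Type u) [Field K] (φ : A →+* K),
      Module.finrank K (Subalgebra.centralizer K ({g.map φ} : Set (Matrix (Fin n) (Fin n) K))) = n) :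
    ∃ U, commMat g * U * commMat g = commMat g := by
  classical
  let L := commMat g
  let I : Ideal A :=
    { carrier := {a | ∃ U, L * U * L = a • L}
      add_mem' := fun {a b} ⟨U, hU⟩ ⟨V, hV⟩ => ⟨U + V, by rw [Matrix.mul_add, Matrix.add_mul, hU, hV, add_smul]⟩
      zero_mem' := ⟨0, by simp⟩
      smul_mem' := fun c a ⟨U, hU⟩ => ⟨c • U, by rw [Matrix.mul_smul, Matrix.smul_mul, hU, smul_smul]; rfl⟩ }
  suffices h : I = ⊤ by
    obtain ⟨U, hU⟩ : (1 : A) ∈ I := h ▸ Submodule.mem_top
    exact ⟨U, by rwa [one_smul] at hU⟩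
  by_contra hne
  obtain ⟨q, hq, hIq⟩ := Ideal.exists_le_maximal I hne
  let R := Localization.AtPrime q
  let al : A →+* R := algebraMap A R
  obtain ⟨v, hv⟩ := exists_cyclic (g.map ((IsLocalRing.residue R).comp al)) (hreg _ _).le
  obtain ⟨U, hU⟩ := exists_genInv_local (g.map al) v (by rw [Matrix.map_map]; exact hv)
  rw [commMat_map] at hU
  -- clear denominators
  obtain ⟨s, hs⟩ := IsLocalization.exist_integer_multiples_of_finite q.primeCompl
    (fun ab : (Fin n × Fin n) × (Fin n × Fin n) => U ab.1 ab.2)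
  choose U0 hU0 using hs
  let V : Matrix (Fin n × Fin n) (Fin n × Fin n) A := Matrix.of fun a b => U0 (a, b)
  have hV : V.map al = al (s : A) • U := Matrix.ext fun a b => by
    show al (U0 (a, b)) = al (s : A) * U a b
    rw [hU0 (a, b), Algebra.smul_def]
  have key : ∀ a b, al ((L * V * L) a b - ((s : A) • L) a b) = 0 := by
    intro a b
    have : (L * V * L).map al = ((s : A) • L).map al := by
      rw [Matrix.map_mul, Matrix.map_mul, hV, Matrix.mul_smul, Matrix.smul_mul, hU]
      exact Matrix.ext fun i j => (map_mul al _ _).symm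
    rw [map_sub, sub_eq_zero]
    exact congrFun (congrFun this a) b
  have key' : ∀ ab : (Fin n × Fin n) × (Fin n × Fin n), ∃ t : q.primeCompl,
      (t : A) * ((L * V * L) ab.1 ab.2 - ((s : A) • L) ab.1 ab.2) = 0 := fun ab =>
    (IsLocalization.map_eq_zero_iff q.primeCompl R _).1 (key ab.1 ab.2)
  choose t ht using key'
  let t0 := ∏ ab, t ab
  refine (t0 * s).2 (hIq ⟨(t0 : A) • V, Matrix.ext fun a b => ?_⟩)
  obtain ⟨w, hw⟩ := Finset.dvd_prod_of_mem t (Finset.mem_univ (a, b))
  have e : (t0 : A) * ((L * V * L) a b - ((s : A) • L) a b) = 0 := by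
    rw [show t0 = t (a, b) * w from hw, Submonoid.coe_mul, mul_right_comm, ht (a, b), zero_mul]
  rw [Matrix.mul_smul, Matrix.smul_mul, Submonoid.coe_mul, Matrix.smul_apply, Matrix.smul_apply, smul_eq_mul, smul_eq_mul]
  rw [Matrix.smul_apply, smul_eq_mul] at e
  linear_combination e

/-- The ring cutting out the centralizer is flat. -/
theorem flat_centralizer {A : Type u} [CommRing A] (g : Matrix (Fin n) (Fin n) A) (U : Matrix (Fin n × Fin n) (Fin n × Fin n) A)
    (hU : commMat g * U * commMat g = commMat g) :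
    Module.Flat A (MvPolynomial (Fin n × Fin n) A ⧸ Ideal.span (Set.range fun ij : Fin n × Fin n =>
        (Matrix.mvPolynomialX (Fin n) (Fin n) A * g.map MvPolynomial.C -
          g.map MvPolynomial.C * Matrix.mvPolynomialX (Fin n) (Fin n) A :
            Matrix (Fin n) (Fin n) (MvPolynomial (Fin n × Fin n) A)) ij.1 ij.2)) := by
  classical
  let P := MvPolynomial (Fin n × Fin n) A
  let c : A →+* P := MvPolynomial.C
  let X : Fin n × Fin n → P := MvPolynomial.X
  let ℓ : Fin n × Fin n → P := ((commMat g).map c).mulVec X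
  have hℓ : (fun ij : Fin n × Fin n => (Matrix.mvPolynomialX (Fin n) (Fin n) A * g.map MvPolynomial.C -
      g.map MvPolynomial.C * Matrix.mvPolynomialX (Fin n) (Fin n) A :
        Matrix (Fin n) (Fin n) P) ij.1 ij.2) = ℓ := by
    funext ij
    show _ = ((commMat g).map c).mulVec X (ij.1, ij.2)
    rw [← commMat_map, commMat_mulVec]
    rfl
  rw [hℓ]
  set I := Ideal.span (Set.range ℓ) with hI
  let σ : P →ₐ[A] P := MvPolynomial.aeval fun ij => X ij - ((U.map c).mulVec ℓ) ij
  have hσℓ : ∀ ij, σ (ℓ ij) = 0 := by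
    intro ij
    have h1 : σ (ℓ ij) = ((commMat g).map c).mulVec (fun kl => X kl - ((U.map c).mulVec ℓ) kl) ij := by
      simp only [ℓ, Matrix.mulVec, dotProduct, map_sum, map_mul, Matrix.map_apply]
      refine Finset.sum_congr rfl fun kl _ => ?_
      rw [show σ (X kl) = _ from MvPolynomial.aeval_X _ kl, show σ (c _) = _ from MvPolynomial.aeval_C _ _]
      rfl
    rw [h1, show (fun kl => X kl - ((U.map c).mulVec ℓ) kl) = X - (U.map c).mulVec ℓ from rfl, Matrix.mulVec_sub]
    have e : (commMat g).map c * U.map c * (commMat g).map c = (commMat g).map c := by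
      rw [← Matrix.map_mul, ← Matrix.map_mul, hU]
    show (_ - ((commMat g).map c).mulVec ((U.map c).mulVec (((commMat g).map c).mulVec X))) ij = 0
    rw [Matrix.mulVec_mulVec, Matrix.mulVec_mulVec, e, sub_self]
    rfl
  have hker : ∀ p ∈ I, σ p = 0 := fun p hp => by
    have : I ≤ RingHom.ker σ.toRingHom := by
      rw [hI, Ideal.span_le]; rintro _ ⟨ij, rfl⟩; exact hσℓ ij
    exact this hp
  let j : (P ⧸ I) →ₐ[A] P := Ideal.Quotient.liftₐ I σ hker
  have hmk : (Ideal.Quotient.mkₐ A I).comp σ = Ideal.Quotient.mkₐ A I := by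
    refine MvPolynomial.algHom_ext fun ij => ?_
    rw [AlgHom.comp_apply, show σ (MvPolynomial.X ij) = _ from MvPolynomial.aeval_X _ ij, map_sub]
    refine sub_eq_self.2 (Ideal.Quotient.eq_zero_iff_mem.2 ?_)
    exact Submodule.sum_mem _ fun kl _ => I.mul_mem_left _ (Ideal.subset_span ⟨kl, rfl⟩)
  refine Module.Flat.of_retract (M := P) j.toLinearMap (Ideal.Quotient.mkₐ A I).toLinearMap (LinearMap.ext fun x => ?_)
  obtain ⟨p, rfl⟩ := Ideal.Quotient.mk_surjective x
  exact DFunLike.congr_fun hmk p

end RegMatLib
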